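import Mathlib
import Cfsg.Prelude.Def_Involutions
import Cfsg.Agent.Lib.SECount.Basic
import Cfsg.Agent.Lib.ZStar.Final
import Cfsg.Agent.Lib.Signalizer.LayerBasic
import Cfsg.Agent.Lib.TwoRankInter.Main
import Cfsg.Agent.Lib.Hall.Nilpotent

/-!
# Strongly embedded subgroups in 2-rank one

If two commuting involutions always coincide then the Sylow 2-subgroups are cyclic or generalized
quaternion and, by the Z*-theorem, `G = O(G) H` and `O(H) ≤ O(G)` for a strongly embedded `H`.
-/

set_option autoImplicit false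
set_option linter.style.haveILetI false

namespace Cfsg.Agent.Lib.Bender14.RankOne

open Subgroup
open Cfsg.Agent.Lib.SECount (invo_sq invo_inv invo_ne_one orderOf_conj_eq exists_invo_mem mem_of_commute)

universe u

variable {G : Type u} [Group G] [Finite G]

/-- In 2-rank one, commuting involutions are equal. -/
theorem eq_of_commute (h : Cfsg.PRankLE 2 1 G) {a b : G} (ha : orderOf a = 2) (hb : orderOf b = 2)
    (hab : Commute a b) : a = b := by
  by_contra hne
  have haa := invo_sq ha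
  have hbb := invo_sq hb
  let A : Subgroup G := Subgroup.closure {a, b}
  have hcomm : IsMulCommutative A := Subgroup.isMulCommutative_closure fun x hx y hy => by
    rcases hx with rfl | rfl <;> rcases hy with rfl | rfl
    exacts [rfl, hab.eq, hab.eq.symm, rfl]
  have hsq : ∀ x ∈ A, x ^ 2 = 1 := by
    intro x hx
    induction hx using Subgroup.closure_induction with
    | mem x hx => rcases hx with rfl | rfl <;> rw [pow_two] <;> assumption
    | one => exact one_pow 2
    | mul x y hx hy ihx ihy =>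
      have hc : Commute x y := congrArg Subtype.val (hcomm.is_comm.comm ⟨x, hx⟩ ⟨y, hy⟩)
      rw [hc.mul_pow, ihx, ihy, one_mul]
    | inv x _ ihx => rw [inv_pow, ihx, inv_one]
  have hcard := h A hcomm hsq
  have h3 : ({1, a, b} : Set G).ncard = 3 :=
    Set.ncard_eq_three.mpr ⟨1, a, b, (invo_ne_one ha).symm, (invo_ne_one hb).symm, hne, rfl⟩
  have hsub : ({1, a, b} : Set G) ⊆ A := by
    rintro x (rfl | rfl | rfl)
    exacts [one_mem A, Subgroup.subset_closure (Or.inl rfl), Subgroup.subset_closure (Or.inr rfl)]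
  have := Set.ncard_le_ncard hsub (Set.finite_of_ncard_ne_zero (by
    rw [← Nat.card_coe_set_eq]; exact Nat.card_pos.ne'))
  rw [h3, ← Nat.card_coe_set_eq, SetLike.coe_sort_coe] at this
  omega

/-- In 2-rank one the Sylow 2-subgroups are cyclic or generalized quaternion. -/
theorem sylow_cyclic_or_quaternion (h : Cfsg.PRankLE 2 1 G) (S : Sylow 2 G) :
    IsCyclic S ∨ ∃ m : ℕ, 1 ≤ m ∧ Nonempty ((S : Subgroup G) ≃* QuaternionGroup (2 ^ m)) := by
  haveI : Fact (Nat.Prime 2) := ⟨Nat.prime_two⟩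
  have huniq : ∀ a b : (S : Subgroup G), orderOf a = 2 → orderOf b = 2 → a = b := by
    intro a b ha hb
    haveI : Nontrivial (S : Subgroup G) := ⟨a, 1, fun e => by simp [e] at ha⟩
    haveI := S.2.center_nontrivial
    obtain ⟨k, hk, hcard⟩ := (S.2.to_subgroup (Subgroup.center (S : Subgroup G))).nontrivial_iff_card.mp
      inferInstance
    obtain ⟨z, hz⟩ := exists_prime_orderOf_dvd_card' (G := Subgroup.center (S : Subgroup G)) 2
      (hcard ▸ dvd_pow_self 2 hk.ne')
    rw [← Subgroup.orderOf_coe, ← Subgroup.orderOf_coe] at hz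
    have key : ∀ c : (S : Subgroup G), orderOf c = 2 → (c : G) = ((z : (S : Subgroup G)) : G) :=
      fun c hc => eq_of_commute h ((Subgroup.orderOf_coe c).trans hc) hz
        (congrArg Subtype.val (Subgroup.mem_center_iff.mp z.2 c))
    exact Subtype.ext ((key a ha).trans (key b hb).symm)
  rcases TwoRankInter.isCyclic_or_quaternion_of_unique S.2 huniq with hc | ⟨n, ⟨e⟩⟩
  · exact Or.inl hc
  rcases Nat.eq_zero_or_pos n with hn | hn
  · refine Or.inl ?_
    subst hn
    haveI : IsCyclic (QuaternionGroup (2 ^ 0)) :=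
      isCyclic_of_orderOf_eq_card (QuaternionGroup.xa 0)
        (by rw [QuaternionGroup.orderOf_xa, Nat.card_eq_fintype_card, QuaternionGroup.card, pow_zero, mul_one])
    exact isCyclic_of_surjective e.symm e.symm.surjective
  · exact Or.inr ⟨n, hn, ⟨e⟩⟩

/-- Every involution is isolated in 2-rank one. -/
theorem isIsolated (h : Cfsg.PRankLE 2 1 G) {t : G} (ht : orderOf t = 2) :
    Cfsg.IsIsolatedInvolution t :=
  ⟨ht, fun g hg => (eq_of_commute h ht ((orderOf_conj_eq g t).trans ht) hg).symm⟩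

/-- `G = O(G) C(t)` for an isolated involution `t`. -/
theorem exists_oddCore_mul_commute {t : G} (ht : Cfsg.IsIsolatedInvolution t) (g : G) :
    ∃ y ∈ Cfsg.oddCore G, (y * g) * t = t * (y * g) := by
  have hinv := invo_inv ht.1
  set x := t * g * t⁻¹ * g⁻¹ with hx
  have hxO : x ∈ Cfsg.oddCore G := ZStar.zStar G t ht g
  have hgt : g * t * g⁻¹ = t * x := by rw [hx, hinv]; simp [← mul_assoc, invo_sq ht.1]
  have hxinv : t * x * t⁻¹ = x⁻¹ := by
    have h2 : (t * x) * (t * x) = 1 := by
      rw [← hgt]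
      calc g * t * g⁻¹ * (g * t * g⁻¹) = g * (t * t) * g⁻¹ := by group
        _ = 1 := by rw [invo_sq ht.1, mul_one, mul_inv_cancel]
    rw [hinv]
    exact eq_inv_of_mul_eq_one_left (by rw [← h2]; group)
  obtain ⟨k, hk⟩ : Odd (orderOf x) :=
    PLayerBasic.oddCore_odd.of_dvd_nat (Subgroup.orderOf_dvd_natCard _ hxO)
  refine ⟨x ^ (k + 1), pow_mem hxO _, ?_⟩
  have hy2 : x ^ (k + 1) * x ^ (k + 1) = x := by
    rw [← pow_add, show k + 1 + (k + 1) = orderOf x + 1 by omega, pow_succ, pow_orderOf_eq_one, one_mul]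
  have hty : t * x ^ (k + 1) = (x ^ (k + 1))⁻¹ * t := by
    have h1 : t * x ^ (k + 1) * t⁻¹ = (x ^ (k + 1))⁻¹ := by rw [← conj_pow, hxinv, inv_pow]
    calc t * x ^ (k + 1) = t * x ^ (k + 1) * t⁻¹ * t := by group
      _ = _ := by rw [h1]
  have hgt' : g * t = t * x * g := by rw [← hgt, inv_mul_cancel_right]
  calc x ^ (k + 1) * g * t = x ^ (k + 1) * (t * x * g) := by rw [mul_assoc, hgt']
    _ = x ^ (k + 1) * (t * (x ^ (k + 1) * x ^ (k + 1)) * g) := by rw [hy2]
    _ = x ^ (k + 1) * (t * x ^ (k + 1)) * (x ^ (k + 1) * g) := by simp only [mul_assoc]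
    _ = t * (x ^ (k + 1) * g) := by rw [hty]; group

/-- `G = O(G) H` in 2-rank one. -/
theorem oddCore_sup_eq_top (h : Cfsg.PRankLE 2 1 G) {H : Subgroup G}
    (hH : Cfsg.IsStronglyEmbedded H) : Cfsg.oddCore G ⊔ H = ⊤ := by
  obtain ⟨t, ht, htH⟩ := exists_invo_mem hH
  refine eq_top_iff.mpr fun g _ => ?_
  obtain ⟨y, hy, hc⟩ := exists_oddCore_mul_commute (isIsolated h ht) g
  rw [show g = y⁻¹ * (y * g) by group]
  exact Subgroup.mul_mem _ (mem_sup_left (inv_mem hy)) (mem_sup_right (mem_of_commute hH ht htH hc))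

/-- The second alternative of Bender's theorem in 2-rank one. -/
theorem rankOne (h : Cfsg.PRankLE 2 1 G) {H : Subgroup G} (hH : Cfsg.IsStronglyEmbedded H) :
    (∀ S : Sylow 2 G, IsCyclic S ∨
      ∃ m : ℕ, 1 ≤ m ∧ Nonempty ((S : Subgroup G) ≃* QuaternionGroup (2 ^ m))) ∧
      Cfsg.oddCore G ⊔ H = ⊤ :=
  ⟨sylow_cyclic_or_quaternion h, oddCore_sup_eq_top h hH⟩

/-- `O(H) ≤ O(G)` when `G = O(G) H`. -/
theorem map_oddCore_le_of_sup_eq_top {H : Subgroup G} (htop : Cfsg.oddCore G ⊔ H = ⊤) :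
    (Cfsg.oddCore ↥H).map H.subtype ≤ Cfsg.oddCore G := by
  set O := Cfsg.oddCore G with hO
  set R := (Cfsg.oddCore ↥H).map H.subtype with hR
  haveI : O.Normal := Subgroup.sSup_normal _ fun _ hN => hN.1
  haveI hn : (Cfsg.oddCore ↥H).Normal := Subgroup.sSup_normal _ fun _ hN => hN.1
  have hRH : H ≤ normalizer (R : Set G) := by
    refine (normal_subgroupOf_iff_le_normalizer (map_subtype_le _)).mp ?_
    rw [subgroupOf, comap_map_eq_self_of_injective H.subtype_injective]
    exact hn
  have hN : (R ⊔ O).Normal := by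
    refine normalizer_eq_top_iff.mp (eq_top_iff.mpr (htop ▸ sup_le (le_sup_right.trans le_normalizer) ?_))
    exact (le_inf hRH ((le_top : H ≤ ⊤).trans (normalizer_eq_top_iff.mpr inferInstance).ge)).trans
      (normalizer_inf_normalizer_le_normalizer_sup (H := R) (K := O))
  have hodd : Odd (Nat.card ↥(R ⊔ O)) := by
    refine ((PLayerBasic.oddCore_odd (G := ↥H)).mul (PLayerBasic.oddCore_odd (G := G))).of_dvd_nat ?_
    have := Hall.card_sup_dvd_of_le_normalizer (X := R) (Y := O)
      (le_top.trans (normalizer_eq_top_iff.mpr inferInstance).ge)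
    rwa [hR, card_map_of_injective H.subtype_injective] at this
  exact le_sup_left.trans (le_sSup ⟨hN, Nat.coprime_two_right.mpr hodd⟩)

/-- `O(H) ≤ O(G)` in 2-rank one. -/
theorem map_oddCore_le (h : Cfsg.PRankLE 2 1 G) {H : Subgroup G}
    (hH : Cfsg.IsStronglyEmbedded H) : (Cfsg.oddCore ↥H).map H.subtype ≤ Cfsg.oddCore G :=
  map_oddCore_le_of_sup_eq_top (oddCore_sup_eq_top h hH)

end Cfsg.Agent.Lib.Bender14.RankOne
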